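import Cfsg.Agent.Lib.Spor.Cos.HSOut.Rep
import Cfsg.Prelude.Def_Spor_Conway

/-!
The group of the definitions as the stabiliser of a standard pair.
-/

set_option autoImplicit false
set_option maxRecDepth 100000

namespace Cfsg.Agent.Spor.Cos.HSOut

open Cfsg Cfsg.Spor Leech Leech.HSPairs

/-- The partner of the first vector. -/
noncomputable def partner : leechLattice := -(leechV + leechU')

theorem partner_facts : sqNorm (leechV : Vec) = 48 ∧ sqNorm (partner : Vec) = 48 ∧
    dotInt (leechV : Vec) (partner : Vec) = -32 := by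
  rw [show (partner : Vec) = fun p => -(vecV p + vecU' p) from rfl, show (leechV : Vec) = vecV from rfl]
  decide +kernel

theorem mem_pair {h : Co0} :
    h ∈ MulAction.stabilizer Co0 leechV ⊓ MulAction.stabilizer Co0 partner ↔
      h • leechV = leechV ∧ h • leechU' = leechU' := by
  show h • leechV = leechV ∧ h • partner = partner ↔ _
  refine ⟨fun ⟨a, b⟩ => ⟨a, ?_⟩, fun ⟨a, b⟩ => ⟨a, by rw [partner, co_neg, co_add, a, b]⟩⟩
  rw [partner, co_neg, co_add, a, neg_inj] at b
  exact add_left_cancel b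

/-- The group of the definitions inside the automorphisms of the lattice. -/
noncomputable def equivPair :
    ↥Cfsg.Spor.HS ≃* ↥(MulAction.stabilizer Co0 leechV ⊓ MulAction.stabilizer Co0 partner) where
  toFun g := ⟨⟨g.1, g.2.1.1⟩, mem_pair.2 ⟨g.2.1.2, g.2.2⟩⟩
  invFun g := ⟨g.1.1, ⟨⟨g.1.2, (mem_pair.1 g.2).1⟩, (mem_pair.1 g.2).2⟩⟩
  left_inv _ := rfl
  right_inv _ := rfl
  map_mul' _ _ := rfl

theorem nonempty_equiv : Nonempty (↥Cfsg.Spor.HS ≃* H) := by
  obtain ⟨hv, hw, hd⟩ := partner_facts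
  obtain ⟨k, k1, k2⟩ := to_pair hv hw hd
  exact ⟨(equivPair.trans (StabSimple.pairEquiv k k1 k2)).trans (MulEquiv.subgroupCongr H_eq.symm)⟩

/-- An isomorphism with the represented group. -/
noncomputable def equivHS : ↥Cfsg.Spor.HS ≃* H := nonempty_equiv.some

end Cfsg.Agent.Spor.Cos.HSOut
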