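import Cfsg.Agent.Lib.Spor.Leech.PermRep
import Cfsg.Agent.Lib.Spor.Leech.HSSimple
import Cfsg.Agent.Lib.Spor.Cos.Simple
import Cfsg.Agent.Lib.Spor.Cos.HSOut.ActData

/-!
The action of a vector pair stabiliser on 100 vectors by tables.
-/

set_option autoImplicit false
set_option maxRecDepth 100000
set_option maxHeartbeats 1000000

namespace Cfsg.Agent.Spor.Cos.HSOut

open Cfsg Leech Leech.HSPairs

/-- The group. -/
abbrev H : Subgroup Co0 := fixSub hsL

/-- The generators. -/
noncomputable def g : ℕ → H := genW hsL opW

theorem op_gens : chkGens hsL opW = true := by decide +kernel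

theorem act_inv : ∀ k < 100, actA.chkInv k = true := by decide +kernel

theorem act_img : ∀ k < 100, chkImg hsC actA opW k = true := by
  refine of_blocks (size := 25) (b := 4) (by decide) (by decide) fun j hj => ?_
  interval_cases j <;> decide +kernel

theorem exists_pi : ∃ π : H →* Equiv.Perm (Fin actA.N), actA.Hom g π :=
  exists_perm hs_checks actA rfl opW rfl op_gens act_inv act_img

/-- The action. -/
noncomputable def pi : H →* Equiv.Perm (Fin actA.N) := exists_pi.choose

theorem homA : actA.Hom g pi := exists_pi.choose_spec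

theorem H_eq : H = MulAction.stabilizer Co0 bU ⊓ MulAction.stabilizer Co0 bW := by
  ext h
  show Fixes hsL h ↔ h • bU = bU ∧ h • bW = bW
  constructor
  · exact fun hf => ⟨hf _ (List.mem_cons_self ..) bU (mkL_val _ _),
      hf _ (List.mem_cons_of_mem _ (List.mem_cons_self ..)) bW (mkL_val _ _)⟩
  · rintro ⟨hu, hw⟩ bc hbc v hv
    rcases List.mem_cons.1 hbc with rfl | hbc
    · rwa [show v = bU from Subtype.ext (hv.trans (mkL_val _ _).symm)]
    rcases List.mem_cons.1 hbc with rfl | hbc
    · rwa [show v = bW from Subtype.ext (hv.trans (mkL_val _ _).symm)]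
    · simp at hbc

theorem card_H : Nat.card H = 44352000 := by rw [H_eq]; exact HSSimple.facts.2

theorem isSimple : IsSimpleGroup H := by rw [H_eq]; exact HSSimple.facts.1

instance : Finite H := Nat.finite_of_card_ne_zero (by rw [card_H]; norm_num)

theorem pi_injective : Function.Injective pi := by
  have := isSimple
  rw [← MonoidHom.ker_eq_bot_iff]
  refine (pi.normal_ker.eq_bot_or_eq_top).resolve_right fun htop => ?_
  have h1 : pi (g 0) = 1 := MonoidHom.mem_ker.1 (htop ▸ Subgroup.mem_top _)
  rw [homA.gen] at h1
  have h2 := congrArg (fun p : Equiv.Perm (Fin actA.N) => (p ⟨0, by decide⟩ : ℕ)) h1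
  rw [actA.perm_apply act_inv (by decide), Equiv.Perm.one_apply] at h2
  revert h2
  decide +kernel

theorem g_sq (s : ℕ) : g s * g s = 1 :=
  pi_injective (by rw [map_mul, homA.gen, actA.perm_sq, map_one])

theorem lev : LevR g actA pi (singles (List.range 3)) 44352000 ptsA := by
  have ok : ∀ {O : Orb} {W : List (List ℕ)} {x : ℕ}, Act.lettersOk actA.n W = true → 0 < O.m →
      (∀ j < O.m, O.chkEnt actA W x j = true) → O.Ok actA W x := fun a b c => ⟨a, b, c⟩
  have k5 : o5.Ok actA o5W (ptsA.getD 5 0) := ok (by decide +kernel) (by decide) (by decide +kernel)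
  have k4 : o4.Ok actA o4W (ptsA.getD 4 0) := ok (by decide +kernel) (by decide) (by decide +kernel)
  have k3 : o3.Ok actA o3W (ptsA.getD 3 0) := ok (by decide +kernel) (by decide) (by decide +kernel)
  have k2 : o2.Ok actA o2W (ptsA.getD 2 0) := ok (by decide +kernel) (by decide) (by decide +kernel)
  have k1 : o1.Ok actA o1W (ptsA.getD 1 0) := ok (by decide +kernel) (by decide) (by decide +kernel)
  have k0 : o0.Ok actA o0W (ptsA.getD 0 0) := ok (by decide +kernel) (by decide) (by decide +kernel)
  exact LevR.step homA (LevR.step homA (LevR.step homA (LevR.step homA (LevR.step homA (LevR.step homA LevR.nil k5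
      (by decide +kernel) (by decide +kernel) (by decide +kernel)) k4
      (by decide +kernel) (by decide +kernel) (by decide +kernel)) k3
      (by decide +kernel) (by decide +kernel) (by decide +kernel)) k2
      (by decide +kernel) (by decide +kernel) (by decide +kernel)) k1
      (by decide +kernel) (by decide +kernel) (by decide +kernel)) k0
      (by decide +kernel) (by decide +kernel) (by decide +kernel)

theorem val_top : val g (singles (List.range 3)) = ⊤ :=
  Subgroup.eq_top_of_le_card _ (card_H.trans_le lev.le)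

theorem det (y : H) (h : ∀ q : Fin actA.N, (q : ℕ) ∈ ptsA → pi y q = q) : y = 1 :=
  lev.fix (by rw [val_top, Nat.card_congr Subgroup.topEquiv.toEquiv, card_H]) y
    (val_top ▸ Subgroup.mem_top y) h

theorem pts_lt : ∀ p ∈ ptsA, p < actA.N := by decide +kernel

theorem g_gen : Subgroup.closure {x | ∃ s < 3, g s = x} = ⊤ := by
  refine top_le_iff.1 (val_top ▸ (Subgroup.closure_le _).2 ?_)
  rintro _ ⟨w, hw, rfl⟩
  obtain ⟨s, hs, rfl⟩ := List.mem_map.1 hw
  exact Subgroup.subset_closure ⟨s, List.mem_range.1 hs, by simp [ev]⟩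

/-- The base point. -/
def base0 : Fin actA.N := ⟨0, by decide⟩

theorem trA (p : Fin actA.N) : ∃ y : H, pi y base0 = p :=
  exists_apply_eq homA (O := o0) (ws := o0W) (x := 0)
    ⟨by decide +kernel, by decide, by decide +kernel⟩ rfl p

end Cfsg.Agent.Spor.Cos.HSOut
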